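import Groth.Agent.L07.EtConn.Tools
import Groth.Agent.L25.Char.EtaleSplit
import Groth.Agent.L25.LargestMult.Split
import Mathlib.FieldTheory.Normal.Basic
import Mathlib.FieldTheory.IsAlgClosed.AlgebraicClosure
import Mathlib.RingTheory.Etale.Field
import Mathlib.RingTheory.Unramified.Finite

/-!
# Isotypic functionals of a Hopf algebra of multiplicative type over a field
-/

universe u

open TensorProduct WithConv
open Groth.L25.LargestMult (ΨK ΨK_tmul conjH conjH_tmul conjH_smul conjH_groupLike)

set_option autoImplicit false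
set_option backward.isDefEq.respectTransparency false
set_option linter.style.haveILetI false
set_option maxHeartbeats 1000000
set_option synthInstance.maxHeartbeats 200000
set_option maxSynthPendingDepth 4

noncomputable section

namespace Groth.L07.Dual

variable {k : Type u} [Field k] {C : Type u} [CommRing C] [HopfAlgebra k C]

local notation "L" => AlgebraicClosure k

theorem mem_range_of_fixed_separable {v : L} (hsep : IsSeparable k v) (hfix : ∀ σ : L ≃ₐ[k] L, σ v = v) :
    v ∈ Set.range (algebraMap k L) := by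
  classical
  have hint : _root_.IsIntegral k v := hsep.isIntegral
  let f := minpoly k v
  have hroots : ∀ r ∈ f.aroots L, r = v := fun r hr => by
    obtain ⟨-, hr'⟩ := Polynomial.mem_aroots.1 hr
    obtain ⟨σ, hσ⟩ := minpoly.exists_algEquiv_of_root' (Algebra.IsAlgebraic.isAlgebraic (R := k) v) hr'
    rw [← hσ, hfix]
  have hsplit : (f.map (algebraMap k L)).Splits := IsAlgClosed.splits _
  have hnodup : (f.aroots L).Nodup := Polynomial.nodup_roots (Polynomial.Separable.map hsep)
  have hcard : (f.aroots L).card ≤ 1 := by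
    by_contra h
    rw [Multiset.eq_replicate_of_mem hroots] at hnodup
    have := Multiset.nodup_iff_count_le_one.1 hnodup v
    rw [Multiset.count_replicate_self] at this
    omega
  have hdeg : f.natDegree = 1 := by
    refine le_antisymm ?_ (minpoly.natDegree_pos hint)
    rw [← Polynomial.natDegree_map (f := algebraMap k L), hsplit.natDegree_eq_card_roots]
    exact hcard
  exact minpoly.natDegree_eq_one_iff.1 hdeg

/-- **isotypic functionals**: orthogonal idempotent functionals with finite supports summing to the counit -/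
theorem exists_isotypic [Coalgebra.IsCocomm k C] [Algebra.FiniteType k C] (hC : SGA3b.IsMultTypeConst k C) :
    ∃ (Idx : Type u) (_ : DecidableEq Idx) (χ : Idx → CartDual.D k C),
      (∀ i j, χ i * χ j = if i = j then χ i else 0) ∧
      (∀ c : C, ∃ s : Finset Idx, (∀ i ∉ s, (χ i).ofConv c = 0) ∧
        ∑ i ∈ s, (χ i).ofConv c = Coalgebra.counit (R := k) c) ∧
      ∀ i, {y : GroupLike L (L ⊗[k] C) | ΨK L (χ i).ofConv y.val ≠ 0}.Finite := by
  classical
  obtain ⟨Bt, _, _, _, q, hq, -, M, _, -, ⟨eB⟩⟩ := Groth.L25.Char.exists_etale_split_of_const hC (⊥ : Ideal k)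
  haveI : Module.Finite k Bt := Algebra.FormallyUnramified.finite_of_free k Bt
  haveI : IsArtinianRing Bt := IsArtinianRing.of_finite k Bt
  haveI : q.IsMaximal := IsArtinianRing.isMaximal_of_isPrime q
  letI : Field (Bt ⧸ q) := Ideal.Quotient.field q
  haveI : Algebra.FormallyUnramified Bt (Bt ⧸ q) :=
    Algebra.FormallyUnramified.of_surjective (Algebra.ofId Bt (Bt ⧸ q)) Ideal.Quotient.mk_surjective
  haveI : Algebra.FormallyUnramified k (Bt ⧸ q) := Algebra.FormallyUnramified.comp k Bt (Bt ⧸ q)
  haveI : Module.Finite k (Bt ⧸ q) := Module.Finite.of_surjective (Ideal.Quotient.mkₐ k q).toLinearMap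
    Ideal.Quotient.mk_surjective
  haveI : Algebra.IsSeparable k (Bt ⧸ q) := Algebra.FormallyUnramified.isSeparable k (Bt ⧸ q)
  haveI : Algebra.IsAlgebraic k (Bt ⧸ q) := Algebra.IsAlgebraic.of_finite k _
  let ι : (Bt ⧸ q) →ₐ[k] L := IsAlgClosed.lift
  let ψ : Bt →ₐ[k] L := ι.comp (Ideal.Quotient.mkₐ k q)
  letI : Algebra Bt L := ψ.toRingHom.toAlgebra
  haveI : IsScalarTower k Bt L := IsScalarTower.of_algebraMap_eq fun r => (ψ.commutes r).symm
  have hsep : ∀ b : Bt, IsSeparable k (ψ b) := fun b => by
    show (minpoly k (ι (Ideal.Quotient.mk q b))).Separable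
    rw [minpoly.algHom_eq ι ι.injective]
    exact Algebra.IsSeparable.isSeparable k (Ideal.Quotient.mk q b)
  let dL := Groth.L25.Char.splitEquiv eB L
  let w : M → L ⊗[k] C := fun m => dL (MonoidAlgebra.single m 1)
  have hwg : ∀ m, IsGroupLikeElem L (w m) := fun m =>
    (MonoidAlgebra.isGroupLikeElem_single_one m).map dL.toBialgHom
  have hwall : ∀ y, IsGroupLikeElem L y → ∃ m, w m = y := fun y hy => by
    obtain ⟨m, hm⟩ := MonoidAlgebra.isGroupLikeElem_iff_mem_range_single_one.1 (hy.map dL.symm.toBialgHom)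
    exact ⟨m, (congrArg dL hm).trans (dL.apply_symm_apply y)⟩
  have hwinj : Function.Injective w := fun m m' h =>
    MonoidAlgebra.single_left_injective one_ne_zero (dL.toEquiv.injective h)
  have hw : ∀ m, w m = Algebra.TensorProduct.map ψ (AlgHom.id k C) (eB.symm (MonoidAlgebra.single m 1)) := fun m => by
    show dL _ = _
    rw [Groth.L25.Char.splitEquiv_single]
    rfl
  let bW : Module.Basis M L (L ⊗[k] C) :=
    Module.Basis.ofRepr (dL.toLinearEquiv.symm.trans (MonoidAlgebra.coeffLinearEquiv L))
  have hbW : ∀ m, bW m = w m := fun m => by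
    refine bW.repr.injective ?_
    rw [Module.Basis.repr_self]
    show _ = (MonoidAlgebra.coeffLinearEquiv L) (dL.toLinearEquiv.symm (dL.toLinearEquiv (MonoidAlgebra.single m 1)))
    rw [LinearEquiv.symm_apply_apply]
    simp
  have hcoef : ∀ (c : C) (m : M), IsSeparable k (bW.repr ((1 : L) ⊗ₜ[k] c) m) := by
    intro c m
    have h1 : (1 : L) ⊗ₜ[k] c = dL (MonoidAlgebra.mapRingHom M (ψ : Bt →+* L) (eB ((1 : Bt) ⊗ₜ[k] c))) := by
      have h2 : ∀ z : MonoidAlgebra Bt M, dL (MonoidAlgebra.mapRingHom M (ψ : Bt →+* L) z) =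
          Algebra.TensorProduct.map ψ (AlgHom.id k C) (eB.symm z) := fun z => by
        induction z using MonoidAlgebra.induction_linear with
        | zero => simp
        | add a b ha hb => simp only [map_add, ha, hb]
        | single m r =>
          rw [MonoidAlgebra.mapRingHom_single, RingHom.coe_coe,
            show (MonoidAlgebra.single m (ψ r) : MonoidAlgebra L M) = ψ r • MonoidAlgebra.single m 1 by simp,
            show (MonoidAlgebra.single m r : MonoidAlgebra Bt M) = r • MonoidAlgebra.single m 1 by simp,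
            map_smul, map_smul, show dL (MonoidAlgebra.single m 1) = _ from hw m]
          induction eB.symm (MonoidAlgebra.single m 1) using TensorProduct.induction_on with
          | zero => simp
          | add a b ha hb => simp only [smul_add, map_add, ha, hb]
          | tmul s a => simp [TensorProduct.smul_tmul', map_mul]
      rw [h2, BialgEquiv.symm_apply_apply, Algebra.TensorProduct.map_tmul, map_one]
      rfl
    have h3 : bW.repr ((1 : L) ⊗ₜ[k] c) m = ψ ((eB ((1 : Bt) ⊗ₜ[k] c)).coeff m) := by
      rw [h1]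
      show (dL.toLinearEquiv.symm (dL.toLinearEquiv (MonoidAlgebra.mapRingHom M (ψ : Bt →+* L)
        (eB ((1 : Bt) ⊗ₜ[k] c))))).coeff m = _
      rw [LinearEquiv.symm_apply_apply]
      simp
    rw [h3]
    exact hsep _
  have hσw : ∀ (σ : L ≃ₐ[k] L) (m : M), ∃ m', w m' = conjH σ (w m) := fun σ m =>
    hwall _ (conjH_groupLike σ (hwg m))
  choose act hact using hσw
  have hrepr : ∀ (σ : L ≃ₐ[k] L) (z : L ⊗[k] C) (m : M),
      bW.repr (conjH σ z) (act σ m) = σ (bW.repr z m) := by
    intro σ z m
    have hinj : Function.Injective (act σ) := fun a b h => hwinj (by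
      have h' : conjH σ (w a) = conjH σ (w b) := by rw [← hact, ← hact, h]
      have hc : ∀ z : L ⊗[k] C, conjH σ.symm (conjH σ z) = z := fun z => by
        induction z using TensorProduct.induction_on with
        | zero => simp
        | add p r hp hr => simp only [map_add, hp, hr]
        | tmul s a => simp [conjH_tmul]
      rw [← hc (w a), h', hc])
    conv_lhs => rw [← bW.linearCombination_repr z, Finsupp.linearCombination_apply, Finsupp.sum, map_sum, map_sum,
      Finsupp.finsetSum_apply]
    refine (Finset.sum_eq_single m (fun j _ hj => ?_) (fun hm => ?_)).trans ?_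
    · rw [conjH_smul, hbW, ← hact, ← hbW, map_smul, Finsupp.smul_apply, Module.Basis.repr_self,
        Finsupp.single_apply, if_neg (fun h => hj (hinj h)), smul_zero]
    · rw [Finsupp.notMem_support_iff.1 hm, zero_smul, map_zero, map_zero]; rfl
    · rw [conjH_smul, hbW, ← hact, ← hbW, map_smul, Finsupp.smul_apply, Module.Basis.repr_self,
        Finsupp.single_eq_same, smul_eq_mul, mul_one]
  let orb : M → Set M := fun m => Set.range fun σ => act σ m
  have horbfin : ∀ m, (orb m).Finite := fun m => by
    haveI : Finite (Bt →ₐ[k] L) := inferInstance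
    let F : (L ≃ₐ[k] L) → (Bt →ₐ[k] L) := fun σ => (σ : L →ₐ[k] L).comp ψ
    have hF : ∀ σ τ, F σ = F τ → act σ m = act τ m := fun σ τ h => hwinj (by
      rw [hact, hact, hw]
      induction eB.symm (MonoidAlgebra.single m 1) using TensorProduct.induction_on with
      | zero => simp
      | add a b ha hb => simp only [map_add, ha, hb]
      | tmul s a =>
        rw [Algebra.TensorProduct.map_tmul, conjH_tmul, conjH_tmul]
        exact congrArg (· ⊗ₜ[k] (AlgHom.id k C) a) (AlgHom.congr_fun h s))
    refine Set.Finite.subset (Set.finite_range fun f : Set.range F => act f.2.choose m) ?_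
    rintro _ ⟨σ, rfl⟩
    exact ⟨⟨F σ, σ, rfl⟩, hF _ _ (⟨F σ, σ, rfl⟩ : Set.range F).2.choose_spec⟩
  have hact1 : ∀ m, act 1 m = m := fun m => hwinj (by
    rw [hact]
    induction w m using TensorProduct.induction_on with
    | zero => simp
    | add a b ha hb => simp only [map_add, ha, hb]
    | tmul s a => simp [conjH_tmul])
  have hactmul : ∀ σ τ m, act (σ * τ) m = act σ (act τ m) := fun σ τ m => hwinj (by
    rw [hact, hact, hact]
    induction w m using TensorProduct.induction_on with
    | zero => simp
    | add a b ha hb => simp only [map_add, ha, hb]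
    | tmul s a => simp [conjH_tmul])
  have horb_eq : ∀ {m m'}, m' ∈ orb m → orb m' = orb m := by
    rintro m _ ⟨τ, rfl⟩
    ext x
    constructor
    · rintro ⟨σ, rfl⟩; exact ⟨σ * τ, hactmul σ τ m⟩
    · rintro ⟨σ, rfl⟩
      refine ⟨σ * τ⁻¹, ?_⟩
      show act (σ * τ⁻¹) (act τ m) = _
      rw [← hactmul, inv_mul_cancel_right]
  have hmem_orb : ∀ m, m ∈ orb m := fun m => ⟨1, hact1 m⟩
  let Idx := Set.range orb
  have hIfin : ∀ O : Idx, (O.1).Finite := fun O => by obtain ⟨m, hm⟩ := O.2; exact hm ▸ horbfin m
  have hstable : ∀ (O : Idx) (σ : L ≃ₐ[k] L) m, m ∈ O.1 → act σ m ∈ O.1 := fun O σ m hm => by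
    obtain ⟨m₀, h₀⟩ := O.2
    rw [← h₀] at hm ⊢
    rw [← horb_eq hm]
    exact ⟨σ, rfl⟩
  let Λ : Idx → L ⊗[k] C →ₗ[L] L := fun O => ∑ m ∈ (hIfin O).toFinset, bW.coord m
  have hΛw : ∀ O m, Λ O (w m) = if m ∈ O.1 then 1 else 0 := fun O m => by
    simp only [Λ, LinearMap.coe_sum, Finset.sum_apply, Module.Basis.coord_apply, ← hbW, Module.Basis.repr_self,
      Finsupp.single_apply, Finset.sum_ite_eq, Set.Finite.mem_toFinset]
  have hΛk : ∀ O c, Λ O ((1 : L) ⊗ₜ[k] c) ∈ Set.range (algebraMap k L) := by
    intro O c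
    refine mem_range_of_fixed_separable ?_ fun σ => ?_
    · have hs : ∀ (s : Finset M), IsSeparable k (∑ m ∈ s, bW.repr ((1 : L) ⊗ₜ[k] c) m) := fun s => by
        induction s using Finset.induction_on with
        | empty => rw [Finset.sum_empty, ← map_zero (algebraMap k L)]; exact isSeparable_algebraMap _
        | insert a s ha ih => rw [Finset.sum_insert ha]; exact Field.isSeparable_add (hcoef c a) ih
      simpa [Λ, Module.Basis.coord_apply] using hs (hIfin O).toFinset
    · simp only [Λ, LinearMap.coe_sum, Finset.sum_apply, Module.Basis.coord_apply, map_sum]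
      have h : ∀ m, σ (bW.repr ((1 : L) ⊗ₜ[k] c) m) = bW.repr ((1 : L) ⊗ₜ[k] c) (act σ m) := fun m => by
        rw [← hrepr, conjH_tmul, map_one]
      simp only [h]
      refine Finset.sum_bij (fun m _ => act σ m) (fun m hm => ?_) (fun a _ b _ hab => ?_) (fun b hb => ?_)
        (fun m _ => rfl)
      · rw [Set.Finite.mem_toFinset] at hm ⊢
        exact hstable O σ m hm
      · have h' := congrArg (act σ⁻¹) hab
        rwa [← hactmul, ← hactmul, inv_mul_cancel, hact1, hact1] at h'
      · rw [Set.Finite.mem_toFinset] at hb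
        exact ⟨act σ⁻¹ b, (hIfin O).mem_toFinset.2 (hstable O σ⁻¹ b hb), by
          rw [← hactmul, mul_inv_cancel, hact1]⟩
  choose val hval using hΛk
  let χl : Idx → C →ₗ[k] k := fun O =>
    { toFun := val O
      map_add' := fun x y => (algebraMap k L).injective (by
        rw [map_add, hval, hval, hval, TensorProduct.tmul_add, map_add])
      map_smul' := fun r x => (algebraMap k L).injective (by
        rw [RingHom.id_apply, smul_eq_mul, map_mul, hval, hval, TensorProduct.tmul_smul,
          ← algebraMap_smul L r ((1 : L) ⊗ₜ[k] x), map_smul, smul_eq_mul]) }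
  have hΨ : ∀ O z, ΨK L (χl O) z = Λ O z := fun O z => by
    induction z using TensorProduct.induction_on with
    | zero => simp
    | add a b ha hb => simp only [map_add, ha, hb]
    | tmul s a =>
      rw [ΨK_tmul, show algebraMap k L ((χl O) a) = Λ O ((1 : L) ⊗ₜ[k] a) from hval O a, ← smul_eq_mul, ← map_smul,
        TensorProduct.smul_tmul', smul_eq_mul, mul_one]
  have hext : ∀ φ φ' : CartDual.D k C, (∀ m, ΨK L φ.ofConv (w m) = ΨK L φ'.ofConv (w m)) → φ = φ' := by
    intro φ φ' h
    refine WithConv.ofConv_injective (LinearMap.ext fun c => (algebraMap k L).injective ?_)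
    have h' : ΨK L φ.ofConv = ΨK L φ'.ofConv := bW.ext fun m => by rw [hbW]; exact h m
    have := LinearMap.congr_fun h' ((1 : L) ⊗ₜ[k] c)
    rwa [ΨK_tmul, ΨK_tmul, one_mul, one_mul] at this
  refine ⟨Idx, inferInstance, fun O => toConv (χl O), fun i j => ?_, fun c => ?_, fun i => ?_⟩
  · refine hext _ _ fun m => ?_
    rw [Groth.L07.EtConn.ΨK_mul, (hwg m).comul_eq_tmul_self, TensorProduct.map_tmul, LinearMap.mul'_apply]
    show ΨK L (χl i) (w m) * ΨK L (χl j) (w m) = _
    rw [hΨ, hΨ]
    by_cases hij : i = j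
    · subst hij
      rw [if_pos rfl]
      show _ = ΨK L (χl i) (w m)
      rw [hΨ, hΛw]
      split_ifs <;> simp
    · rw [if_neg hij, hΛw, hΛw]
      have h0 : ΨK L (0 : CartDual.D k C).ofConv (w m) = 0 := by simp [ΨK]
      rw [h0]
      split_ifs with h1 h2 <;> simp
      obtain ⟨a, ha⟩ := i.2
      obtain ⟨b, hb⟩ := j.2
      refine hij (Subtype.ext ?_)
      rw [← ha] at h1
      rw [← hb] at h2
      rw [← ha, ← hb, ← horb_eq h1, horb_eq h2]
  · let sup := (bW.repr ((1 : L) ⊗ₜ[k] c)).support
    refine ⟨sup.image fun m => (⟨orb m, m, rfl⟩ : Idx), fun O hO => (algebraMap k L).injective ?_,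
      (algebraMap k L).injective ?_⟩
    · show algebraMap k L (val O c) = _
      rw [hval, map_zero]
      simp only [Λ, LinearMap.coe_sum, Finset.sum_apply, Module.Basis.coord_apply]
      refine Finset.sum_eq_zero fun m hm => ?_
      rw [Set.Finite.mem_toFinset] at hm
      by_contra hne
      refine hO (Finset.mem_image.2 ⟨m, Finsupp.mem_support_iff.2 hne, Subtype.ext ?_⟩)
      obtain ⟨m₀, h₀⟩ := O.2
      rw [← h₀] at hm
      exact (horb_eq hm).trans h₀
    · have hrhs : algebraMap k L (Coalgebra.counit (R := k) c) = ∑ m ∈ sup, bW.repr ((1 : L) ⊗ₜ[k] c) m := by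
        have h := congrArg (Coalgebra.counit (R := L) (A := L ⊗[k] C)) (bW.linearCombination_repr ((1 : L) ⊗ₜ[k] c))
        rw [Finsupp.linearCombination_apply, Finsupp.sum, map_sum, TensorProduct.counit_tmul,
          CommSemiring.counit_apply] at h
        rw [Algebra.algebraMap_eq_smul_one, ← h]
        exact Finset.sum_congr rfl fun m _ => by
          rw [map_smul, hbW, (hwg m).counit_eq_one, smul_eq_mul, mul_one]
      rw [hrhs, map_sum]
      show ∑ O ∈ _, algebraMap k L (val O c) = _
      simp only [hval, Λ, LinearMap.coe_sum, Finset.sum_apply, Module.Basis.coord_apply]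
      rw [← Finset.sum_fiberwise_of_maps_to (g := fun m => (⟨orb m, m, rfl⟩ : Idx))
        (fun m hm => Finset.mem_image_of_mem _ hm) (fun m => bW.repr ((1 : L) ⊗ₜ[k] c) m)]
      refine Finset.sum_congr rfl fun O _ => ?_
      refine (Finset.sum_subset (fun m hm => ?_) fun m hm hm' => ?_).symm
      · rw [Finset.mem_filter] at hm
        rw [Set.Finite.mem_toFinset, ← hm.2]
        exact hmem_orb m
      · rw [Set.Finite.mem_toFinset] at hm
        by_contra hne
        refine hm' (Finset.mem_filter.2 ⟨Finsupp.mem_support_iff.2 hne, Subtype.ext ?_⟩)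
        obtain ⟨m₀, h₀⟩ := O.2
        rw [← h₀] at hm
        exact (horb_eq hm).trans h₀
  · refine Set.Finite.subset ((hIfin i).image fun m => (⟨w m, hwg m⟩ : GroupLike L (L ⊗[k] C))) fun y hy => ?_
    obtain ⟨m, hm⟩ := hwall y.val y.isGroupLikeElem_val
    refine ⟨m, ?_, GroupLike.val_injective hm⟩
    by_contra hmem
    refine hy ?_
    show ΨK L (χl i) y.val = 0
    rw [hΨ, ← hm, hΛw, if_neg hmem]

end Groth.L07.Dual
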