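import Groth.Agent.L07.Almost.Main
import Groth.Agent.L07.Dual.Isotypic
import Groth.Agent.L24.TorusField.Hopf
import Groth.Agent.L25.MultType.KillTrivial

/-!
# An almost torus has a finite unipotent component
-/

universe u

open CategoryTheory CategoryTheory.Limits AlgebraicGeometry MonoidalCategory CartesianMonoidalCategory TensorProduct
open scoped MonObj
open WithConv
open Groth.L25.LargestMult (N comp ΨK ΨK_tmul)
open Groth.L07.Almost (Mm πJ)
open Groth.L08 (fAct fAct_apply fAct_mul)
open Groth.L25.Bridge (P)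
open Groth.L08.TorusQuot (sp sp_left)

set_option autoImplicit false
set_option backward.isDefEq.respectTransparency false
set_option backward.isDefEq.respectTransparency.types false
set_option linter.style.haveILetI false
set_option maxHeartbeats 1000000
set_option synthInstance.maxHeartbeats 200000
set_option maxSynthPendingDepth 4

noncomputable section

namespace Groth.L07.Dual

variable {k : Type u} [Field k]

local notation "Sk" => Spec (CommRingCat.of k)

theorem isMultTypeConst_of_isTorus {B : Type u} [CommRing B] [HopfAlgebra k B] (h : Red.IsTorus (P k B)) :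
    SGA3b.IsMultTypeConst k B := by
  obtain ⟨n, ⟨d⟩⟩ := Groth.L24.TorusField.exists_laurent_closure h
  exact ⟨AlgebraicClosure k, inferInstance, inferInstance, inferInstance, Multiplicative (ULift.{u} (Fin n → ℤ)),
    inferInstance, ⟨d.trans (Groth.L25.Char.mapEquiv (AlgebraicClosure k)
      (AddEquiv.toMultiplicative AddEquiv.ulift.symm))⟩⟩

/-- **the unipotent component of an almost torus is finite** -/
theorem finite_B_of_torus {A : Type u} [CommRing A] [HopfAlgebra k A] [Coalgebra.IsCocomm k A]
    (T Q : Over Sk) [GrpObj T] [GrpObj Q] (j : T ⟶ P k A) (q : P k A ⟶ Q) [IsMonHom j] [IsMonHom q]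
    (hj : Mono j) (hT : Red.IsTorus T) (hker : AlgGrp.IsKernel j q) (hfin : IsFinite Q.hom) :
    Module.Finite k (Groth.L25.LargestMult.B k A) := by
  haveI : IsAffine Q.left := isAffine_of_isAffineHom Q.hom
  obtain ⟨C, _, _, _, E, hE⟩ := Groth.L08.CharSurj.exists_P (H := Q)
  haveI := hE
  haveI : IsMonHom E.inv := inferInstance
  haveI : IsIso E.hom.left := inferInstanceAs (IsIso ((Over.forget _).map E.hom))
  haveI : Module.Finite k C := by
    have h : IsFinite (P k C).hom := by rw [← Over.w E.hom]; infer_instance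
    change IsFinite (Spec.map (CommRingCat.ofHom (algebraMap k C))) at h
    rw [IsFinite.SpecMap_iff, CommRingCat.hom_ofHom, RingHom.finite_algebraMap] at h
    exact h
  obtain ⟨ψ, hψ⟩ := Groth.L08.TorusQuot.exists_sp (q ≫ E.inv)
  let K : Ideal A := (RingHom.ker (Bialgebra.counitAlgHom k C)).map (ψ : C →ₐ[k] A)
  haveI : K.IsHopfIdeal k := Groth.L25.MultType.isHopfIdeal_map_ker ψ K rfl
  let qK : A →ₐc[k] A ⧸ K := Bialgebra.Quotient.mkBialgHom (R := k) K
  have hker' : AlgGrp.IsKernel (sp qK) (sp ψ) :=
    Groth.L08.SpecKernel.isKernel ψ qK Ideal.Quotient.mk_surjective (Eq.trans Ideal.mk_ker rfl)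
  rw [hψ] at hker'
  have hker'' : AlgGrp.IsKernel j (q ≫ E.inv) :=
    IsPullback.of_iso hker (Iso.refl T) (Iso.refl _) (Iso.refl _) E.symm (by simp) (by simp) (by simp) (by simp)
  haveI := hj
  let Φ : P k (A ⧸ K) ≅ T := IsPullback.isoIsPullback _ _ hker' hker''
  have hΦ : Φ.hom ≫ j = sp qK := IsPullback.isoIsPullback_hom_fst _ _ hker' hker''
  haveI : IsMonHom Φ.hom := by
    refine ⟨?_, ?_⟩
    · rw [← cancel_mono j, Category.assoc, hΦ, IsMonHom.one_hom (f := sp qK), IsMonHom.one_hom (f := j)]
    · rw [← cancel_mono j, Category.assoc, Category.assoc, hΦ, IsMonHom.mul_hom (f := sp qK),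
        IsMonHom.mul_hom (f := j), ← Category.assoc, MonoidalCategory.tensorHom_comp_tensorHom, hΦ]
  have hTK : Red.IsTorus (P k (A ⧸ K)) := Groth.L25.TorLift.isTorus_of_iso (Grp.mkIso Φ (IsMonHom.one_hom (f := Φ.hom)) (IsMonHom.mul_hom (f := Φ.hom))).symm hT
  have hJK := Groth.L25.LargestMult.J_le K (isMultTypeConst_of_isTorus hTK)
  let ψr : C →ₗ[k] A := (ψ : C →ₐ[k] A).toLinearMap
  have hle : Subalgebra.toSubmodule (Groth.L25.LargestMult.B k A) ≤ LinearMap.range ψr := fun b hb => by
    obtain ⟨w, hw⟩ := (Groth.L25.LargestMult.isHopfSubalgebra_B (k := k) (A := A)).1 b hb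
    have key : TensorProduct.map LinearMap.id (Ideal.Quotient.mkₐ k K).toLinearMap (Coalgebra.comul (R := k) b) =
        b ⊗ₜ[k] (1 : A ⧸ K) := by
      have h2 : ∀ v : Groth.L25.LargestMult.B k A ⊗[k] Groth.L25.LargestMult.B k A,
          TensorProduct.map LinearMap.id (Ideal.Quotient.mkₐ k K).toLinearMap (TensorProduct.map
            (Groth.L25.LargestMult.B k A).val.toLinearMap (Groth.L25.LargestMult.B k A).val.toLinearMap v) =
          (TensorProduct.rid k A ((Coalgebra.counit (R := k) (A := A)).lTensor A (TensorProduct.map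
            (Groth.L25.LargestMult.B k A).val.toLinearMap (Groth.L25.LargestMult.B k A).val.toLinearMap v))) ⊗ₜ[k]
            (1 : A ⧸ K) := fun v => by
        induction v using TensorProduct.induction_on with
        | zero => simp
        | add x y hx hy => simp only [map_add, TensorProduct.add_tmul, hx, hy]
        | tmul x y =>
          simp only [TensorProduct.map_tmul, LinearMap.id_apply, LinearMap.lTensor_tmul, TensorProduct.rid_tmul,
            AlgHom.toLinearMap_apply, Ideal.Quotient.mkₐ_eq_mk]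
          rw [show Ideal.Quotient.mk K ((Groth.L25.LargestMult.B k A).val y) =
            Coalgebra.counit (R := k) (y : A) • (1 : A ⧸ K) by
              rw [← Algebra.algebraMap_eq_smul_one, IsScalarTower.algebraMap_apply k A (A ⧸ K),
                Ideal.Quotient.algebraMap_eq, Ideal.Quotient.eq]
              exact hJK (Groth.L25.LargestMult.sub_counit_mem_J y.2)]
          simp [TensorProduct.smul_tmul']
      rw [← hw, h2, hw, Coalgebra.lTensor_counit_comul, TensorProduct.rid_tmul, one_smul]
    obtain ⟨c, hc⟩ := Groth.L25.UnipExt.mem_range_of_fixed ψ (J := K) rfl key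
    exact ⟨c, hc⟩
  haveI : Module.Finite k (LinearMap.range ψr) := inferInstance
  haveI : Module.Finite k (Subalgebra.toSubmodule (Groth.L25.LargestMult.B k A)) :=
    Submodule.finiteDimensional_of_le hle
  exact Module.Finite.equiv (Subalgebra.toSubmoduleEquiv (Groth.L25.LargestMult.B k A))

section Pieces

variable {A : Type u} [CommRing A] [HopfAlgebra k A] [Coalgebra.IsCocomm k A]

local notation "L" => AlgebraicClosure k

theorem map_πJ_comul (g : GroupLike L (L ⊗[k] A)) {b : L ⊗[k] A} (hb : b ∈ comp L (L ⊗[k] A)) :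
    TensorProduct.map LinearMap.id (πJ k A : L ⊗[k] A →ₗ[L] L ⊗[k] Mm k A) (Coalgebra.comul (R := L) (g.val * b)) =
      (g.val * b) ⊗ₜ[L] πJ k A g.val := by
  obtain ⟨m, hm⟩ := Groth.L25.LargestMult.mem_comp.1 hb
  obtain ⟨w, hw⟩ := Groth.L25.LargestMult.isSubcomod_N (k := L) m b hm
  have h2 : TensorProduct.map LinearMap.id (πJ k A : L ⊗[k] A →ₗ[L] L ⊗[k] Mm k A) (Coalgebra.comul (R := L) b) =
      b ⊗ₜ[L] (1 : L ⊗[k] Mm k A) := by
    have hb' : b = TensorProduct.lid L (L ⊗[k] A) ((Coalgebra.counit (R := L)).rTensor _ (Coalgebra.comul b)) := by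
      rw [Coalgebra.rTensor_counit_comul, TensorProduct.lid_tmul, one_smul]
    conv_lhs => rw [← Coalgebra.comm_comul L b]
    conv_rhs => rw [hb']
    rw [show Coalgebra.comul (R := L) b = (N L (L ⊗[k] A) m).subtype.rTensor (L ⊗[k] A) w from hw.symm]
    clear hw hb'
    induction w using TensorProduct.induction_on with
    | zero => simp
    | add p q hp hq => simp only [map_add, hp, hq, TensorProduct.add_tmul]
    | tmul p q =>
      simp only [LinearMap.rTensor_tmul, Submodule.subtype_apply, TensorProduct.comm_tmul, TensorProduct.map_tmul,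
        LinearMap.id_apply, TensorProduct.lid_tmul]
      rw [show (πJ k A : L ⊗[k] A →ₗ[L] L ⊗[k] Mm k A) (p : L ⊗[k] A) = πJ k A (p : L ⊗[k] A) from rfl,
        Groth.L07.Almost.πJ_of_mem_comp (Groth.L25.LargestMult.mem_comp.2 ⟨m, p.2⟩), TensorProduct.tmul_smul,
        TensorProduct.smul_tmul']
  have hmul : ∀ v, TensorProduct.map LinearMap.id (πJ k A : L ⊗[k] A →ₗ[L] L ⊗[k] Mm k A) ((g.val ⊗ₜ[L] g.val) * v) =
      (g.val ⊗ₜ[L] πJ k A g.val) * TensorProduct.map LinearMap.id (πJ k A : L ⊗[k] A →ₗ[L] L ⊗[k] Mm k A) v := fun v => by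
    induction v using TensorProduct.induction_on with
    | zero => simp
    | add p q hp hq => simp only [map_add, mul_add, hp, hq]
    | tmul p q =>
      simp only [Algebra.TensorProduct.tmul_mul_tmul, TensorProduct.map_tmul, LinearMap.id_apply]
      show _ ⊗ₜ[L] πJ k A (g.val * q) = _
      rw [map_mul]
      rfl
  rw [Bialgebra.comul_mul, g.isGroupLikeElem_val.comul_eq_tmul_self, hmul, h2, Algebra.TensorProduct.tmul_mul_tmul,
    mul_one]

/-- a functional on the multiplicative part, on the group -/
def extJ (χ : CartDual.D k (Mm k A)) : CartDual.D k A :=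
  toConv (χ.ofConv ∘ₗ (Ideal.Quotient.mkₐ k (Groth.L25.LargestMult.J k A)).toLinearMap)

theorem extJ_mul (χ χ' : CartDual.D k (Mm k A)) : extJ (χ * χ') = extJ χ * extJ χ' := by
  refine WithConv.ofConv_injective (LinearMap.ext fun a => ?_)
  let m : A →ₐc[k] Mm k A := Bialgebra.Quotient.mkBialgHom (R := k) (Groth.L25.LargestMult.J k A)
  show LinearMap.mul' k k (TensorProduct.map χ.ofConv χ'.ofConv (Coalgebra.comul (R := k) (m a))) =
    LinearMap.mul' k k (TensorProduct.map (χ.ofConv ∘ₗ (m : A →ₗ[k] Mm k A)) (χ'.ofConv ∘ₗ (m : A →ₗ[k] Mm k A))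
      (Coalgebra.comul (R := k) a))
  rw [← CoalgHomClass.map_comp_comul_apply m a, TensorProduct.map_map]

theorem extJ_zero : extJ (0 : CartDual.D k (Mm k A)) = 0 := WithConv.ofConv_injective (LinearMap.ext fun _ => rfl)

theorem ΨK_extJ (χ : CartDual.D k (Mm k A)) (z : L ⊗[k] A) :
    ΨK L (extJ χ).ofConv z = ΨK L χ.ofConv (πJ k A z) := by
  induction z using TensorProduct.induction_on with
  | zero => simp
  | add p q hp hq => simp only [map_add, hp, hq]
  | tmul s a => exact (ΨK_tmul _ _ _).trans (ΨK_tmul χ.ofConv s (Ideal.Quotient.mk _ a)).symm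

/-- **isotypic functionals of an affine group with finite unipotent component** -/
theorem exists_pieces [Algebra.FiniteType k A] [Module.Finite k (Groth.L25.LargestMult.B k A)] :
    ∃ (Idx : Type u) (_ : DecidableEq Idx) (χ : Idx → CartDual.D k A),
      (∀ i j, χ i * χ j = if i = j then χ i else 0) ∧
      (∀ c : A, ∃ s : Finset Idx, (∀ i ∉ s, (χ i).ofConv c = 0) ∧
        ∑ i ∈ s, (χ i).ofConv c = Coalgebra.counit (R := k) c) ∧
      ∀ i, Module.Finite k (LinearMap.range (fAct A (χ i).ofConv)) := by
  classical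
  haveI : Algebra.FiniteType k (Mm k A) :=
    Algebra.FiniteType.of_surjective (Ideal.Quotient.mkₐ k _) Ideal.Quotient.mk_surjective
  have hC : SGA3b.IsMultTypeConst k (Mm k A) := by
    obtain ⟨X, _, -, d⟩ := Groth.L07.Almost.exists_diag k A
    exact ⟨L, inferInstance, inferInstance, inferInstance, X, inferInstance, d⟩
  obtain ⟨Idx, _, χ, h1, h2, h3⟩ := exists_isotypic hC
  refine ⟨Idx, inferInstance, fun i => extJ (χ i), fun i j => ?_, fun c => ?_, fun i => ?_⟩
  · rw [← extJ_mul, h1]
    split_ifs
    · rfl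
    · exact extJ_zero
  · obtain ⟨s, hs1, hs2⟩ := h2 (Ideal.Quotient.mk _ c)
    exact ⟨s, hs1, hs2.trans (CoalgHomClass.counit_comp_apply
      (Bialgebra.Quotient.mkBialgHom (R := k) (Groth.L25.LargestMult.J k A)) c)⟩
  let P : GroupLike L (L ⊗[k] A) → GroupLike L (L ⊗[k] Mm k A) := fun g =>
    ⟨πJ k A g.val, g.isGroupLikeElem_val.map (πJ k A)⟩
  have hPinj : Function.Injective P := fun g h e => by
    have e1 : πJ k A g.val = πJ k A h.val := congrArg GroupLike.val e
    refine mul_inv_eq_one.1 (Groth.L07.Almost.groupLike_eq_one ?_)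
    rw [GroupLike.val_mul, map_mul, e1, ← map_mul, ← GroupLike.val_mul, mul_inv_cancel, GroupLike.val_one, map_one]
  have hSfin := (h3 i).preimage (f := P) hPinj.injOn
  haveI hcompfin : Module.Finite L (comp L (L ⊗[k] A)) := by
    have hle : comp L (L ⊗[k] A) ≤ (Subalgebra.toSubmodule (Groth.L25.LargestMult.B k A)).baseChange L := fun x hx => by
      obtain ⟨m, hm⟩ := Groth.L25.LargestMult.mem_comp.1 hx
      have h := Groth.L25.LargestMult.N_baseChange_le (K := L) m hm
      rw [Submodule.baseChange_eq_span] at h ⊢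
      exact Submodule.span_mono (Set.image_mono fun a ha => Groth.L25.LargestMult.mem_B.2 ⟨m, ha⟩) h
    haveI : Module.Finite k (Subalgebra.toSubmodule (Groth.L25.LargestMult.B k A)) :=
      Module.Finite.equiv (Subalgebra.toSubmoduleEquiv (Groth.L25.LargestMult.B k A)).symm
    haveI : Module.Finite L ((Subalgebra.toSubmodule (Groth.L25.LargestMult.B k A)).baseChange L) :=
      Module.Finite.iff_fg.2 (by
        obtain ⟨t, ht⟩ := (Module.Finite.iff_fg.1 (inferInstance :
          Module.Finite k (Subalgebra.toSubmodule (Groth.L25.LargestMult.B k A))))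
        rw [← ht, Submodule.baseChange_span]
        exact Submodule.fg_span (t.finite_toSet.image _))
    exact Submodule.finiteDimensional_of_le hle
  let W : Submodule L (L ⊗[k] A) := ⨆ g ∈ hSfin.toFinset, (comp L (L ⊗[k] A)).map (LinearMap.mulLeft L g.val)
  haveI hWfin : Module.Finite L W := Module.Finite.iff_fg.2
    (Submodule.fg_biSup _ _ fun g _ => (Module.Finite.iff_fg.1 hcompfin).map _)
  let φ : A →ₗ[k] k := (extJ (χ i)).ofConv
  have hW : ∀ z : L ⊗[k] A, fAct (L ⊗[k] A) (ΨK L φ) z ∈ W := fun z => by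
    obtain ⟨f, hf⟩ := Groth.L25.LargestMult.dec_surjective (k := L) (A := L ⊗[k] A) z
    rw [← hf]
    clear hf
    induction f using Finsupp.induction with
    | zero => simp
    | single_add g b f _ _ hf =>
      rw [map_add, map_add, Groth.L25.LargestMult.dec_single]
      refine add_mem ?_ hf
      have e : fAct (L ⊗[k] A) (ΨK L φ) (g.val * (b : L ⊗[k] A)) =
          ΨK L (χ i).ofConv (πJ k A g.val) • (g.val * (b : L ⊗[k] A)) := by
        rw [fAct_apply]
        have h := congrArg (fun v => TensorProduct.rid L (L ⊗[k] A) ((ΨK L (χ i).ofConv).lTensor _ v)) (map_πJ_comul g b.2)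
        simp only [LinearMap.lTensor_tmul, TensorProduct.rid_tmul] at h
        refine Eq.trans ?_ h
        show TensorProduct.rid L _ ((ΨK L φ).lTensor _ (Coalgebra.comul (R := L) _)) = _
        rw [show ΨK L φ = ΨK L (χ i).ofConv ∘ₗ (πJ k A : L ⊗[k] A →ₗ[L] L ⊗[k] Mm k A) from
          LinearMap.ext fun w => ΨK_extJ (χ i) w, LinearMap.lTensor_comp]
        rfl
      rw [e]
      by_cases hg : ΨK L (χ i).ofConv (πJ k A g.val) = 0
      · rw [hg, zero_smul]; exact zero_mem _
      · exact W.smul_mem _
          (Submodule.mem_iSup_of_mem g (Submodule.mem_iSup_of_mem (hSfin.mem_toFinset.2 hg) ⟨b, b.2, rfl⟩))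
  let V := LinearMap.range (fAct A φ)
  let Φ : L ⊗[k] V →ₗ[L] W := LinearMap.codRestrict W (V.subtype.baseChange L) fun z => by
    induction z using TensorProduct.induction_on with
    | zero => simp
    | add p q hp hq => rw [map_add]; exact add_mem hp hq
    | tmul s a =>
      obtain ⟨c, hc⟩ := a.2
      rw [LinearMap.baseChange_tmul, Submodule.subtype_apply, ← hc, ← Groth.L25.LargestMult.fAct_ΨK]
      exact hW _
  have hΦ : Function.Injective Φ := fun x y hxy =>
    Module.Flat.lTensor_preserves_injective_linearMap V.subtype Subtype.val_injective (congrArg Subtype.val hxy)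
  haveI : Module.Finite L (L ⊗[k] V) := Module.Finite.of_injective Φ hΦ
  exact Module.Finite.of_finite_tensorProduct_of_faithfullyFlat L

end Pieces

end Groth.L07.Dual
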