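import Groth.Agent.L07.Almost.Char
import Groth.Agent.L07.EtConn.Tools
import Mathlib.RingTheory.TensorProduct.Free
import Mathlib.RingTheory.FiniteType
import Mathlib.RingTheory.Noetherian.Basic

/-!
# The affine pieces of the dual
-/

universe u

open TensorProduct WithConv
open Groth.L08 (fAct fAct_apply fAct_mul fAct_one)
open Groth.L07.ExtShAff (ev1 ev2 mulPt)
open Algebra.TensorProduct (includeLeft includeRight)

set_option autoImplicit false
set_option backward.isDefEq.respectTransparency false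
set_option linter.style.haveILetI false
set_option maxHeartbeats 1000000
set_option synthInstance.maxHeartbeats 200000
set_option maxSynthPendingDepth 4

noncomputable section

namespace Groth.L07.Dual

variable {k : Type u} [Field k] {A : Type u} [CommRing A] [HopfAlgebra k A]

/-- the value of a functional on coefficients -/
def eV (R : Type u) [CommRing R] [Algebra k R] (φ : A →ₗ[k] k) : R ⊗[k] A →ₗ[R] R :=
  LinearMap.liftBaseChange R (Algebra.linearMap k R ∘ₗ φ)

section Eq

variable {R : Type u} [CommRing R] [Algebra k R]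

theorem eV_tmul (φ : A →ₗ[k] k) (r : R) (a : A) : eV R φ (r ⊗ₜ[k] a) = r * algebraMap k R (φ a) := by
  simp [eV]

theorem eV_map {R' : Type u} [CommRing R'] [Algebra k R'] (π : R →ₐ[k] R') (φ : A →ₗ[k] k) (w : R ⊗[k] A) :
    eV R' φ (Algebra.TensorProduct.map π (AlgHom.id k A) w) = π (eV R φ w) := by
  induction w using TensorProduct.induction_on with
  | zero => simp
  | add p q hp hq => simp only [map_add, hp, hq]
  | tmul r a => simp [eV_tmul]

theorem apply_fAct (φ ψ : A →ₗ[k] k) (a : A) : φ (fAct A ψ a) = (toConv φ * toConv ψ).ofConv a := by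
  conv_rhs => rw [← Groth.L07.EtConn.counit_fAct (toConv φ * toConv ψ).ofConv a, fAct_mul]
  exact (Groth.L07.EtConn.counit_fAct φ _).symm

theorem eV_lTensor (φ : A →ₗ[k] k) (f : A →ₗ[k] A) (w : R ⊗[k] A) : eV R φ (f.baseChange R w) = eV R (φ ∘ₗ f) w := by
  induction w using TensorProduct.induction_on with
  | zero => simp
  | add p q hp hq => simp only [map_add, hp, hq]
  | tmul r a => simp [eV_tmul]

/-- functorially group-like -/
def IsGL (u : R ⊗[k] A) : Prop :=
  Algebra.TensorProduct.map (AlgHom.id k R) (Bialgebra.comulAlgHom k A) u =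
    Algebra.TensorProduct.map (AlgHom.id k R) (includeLeft : A →ₐ[k] A ⊗[k] A) u *
      Algebra.TensorProduct.map (AlgHom.id k R) (includeRight : A →ₐ[k] A ⊗[k] A) u

theorem fAct_eq_smul {u : R ⊗[k] A} (hu : IsGL u) (φ : A →ₗ[k] k) :
    (fAct A φ).baseChange R u = eV R φ u • u := by
  let T : R ⊗[k] (A ⊗[k] A) →ₗ[R] R ⊗[k] A :=
    LinearMap.baseChange R ((TensorProduct.rid k A).toLinearMap ∘ₗ φ.lTensor A)
  have hl : ∀ w : R ⊗[k] A, T (Algebra.TensorProduct.map (AlgHom.id k R) (Bialgebra.comulAlgHom k A) w) =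
      (fAct A φ).baseChange R w := fun w => by
    induction w using TensorProduct.induction_on with
    | zero => simp
    | add p q hp hq => simp only [map_add, hp, hq]
    | tmul r a => simp [T, fAct_apply]; rfl
  have hr : ∀ p q : R ⊗[k] A, T (Algebra.TensorProduct.map (AlgHom.id k R) (includeLeft : A →ₐ[k] A ⊗[k] A) p *
      Algebra.TensorProduct.map (AlgHom.id k R) (includeRight : A →ₐ[k] A ⊗[k] A) q) = eV R φ q • p := fun p q => by
    induction p using TensorProduct.induction_on with
    | zero => simp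
    | add p p' hp hp' => simp only [map_add, add_mul, smul_add, hp, hp']
    | tmul r a =>
      induction q using TensorProduct.induction_on with
      | zero => simp
      | add q q' hq hq' => simp only [map_add, mul_add, add_smul, hq, hq']
      | tmul r' a' =>
        simp [T, eV_tmul, TensorProduct.smul_tmul']
        rw [Algebra.smul_def]
        ring_nf
  rw [← hl, hu, hr]

theorem eV_counit {u : R ⊗[k] A} (hu : IsGL u) (hu' : IsUnit u) :
    eV R (Coalgebra.counit (R := k) (A := A)) u = 1 := by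
  have h := fAct_eq_smul hu (Coalgebra.counit (R := k) (A := A))
  have h1 : fAct A (Coalgebra.counit (R := k) (A := A)) = LinearMap.id := by
    rw [show (Coalgebra.counit (R := k) : A →ₗ[k] k) = (1 : WithConv (A →ₗ[k] k)).ofConv from
      LinearMap.ext fun a => by simp, fAct_one]
  rw [h1, LinearMap.baseChange_id, LinearMap.id_apply] at h
  have e : eV R (Coalgebra.counit (R := k) (A := A)) u • (1 : R ⊗[k] A) = 1 :=
    hu'.mul_right_cancel (by rw [one_mul, smul_mul_assoc, one_mul]; exact h.symm)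
  have := congrArg (eV R (Coalgebra.counit (R := k) (A := A))) e
  rwa [map_smul, Algebra.TensorProduct.one_def, eV_tmul, Bialgebra.counit_one, map_one, mul_one, smul_eq_mul,
    mul_one] at this

theorem eV_mul {u : R ⊗[k] A} (hu : IsGL u) (φ ψ : CartDual.D k A) :
    eV R (φ * ψ).ofConv u = eV R φ.ofConv u * eV R ψ.ofConv u := by
  have h := congrArg (eV R φ.ofConv) (fAct_eq_smul hu ψ.ofConv)
  rw [eV_lTensor, map_smul, smul_eq_mul, mul_comm (eV R ψ.ofConv u)] at h
  rw [← h]
  exact LinearMap.congr_fun (congrArg (eV R) (LinearMap.ext fun a => (apply_fAct φ.ofConv ψ.ofConv a).symm)) u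

theorem isUnit_of_isGL {u : R ⊗[k] A} (hu : IsGL u) (h1 : eV R (Coalgebra.counit (R := k)) u = 1) : IsUnit u := by
  let S : A ⊗[k] A →ₐ[k] A :=
    Algebra.TensorProduct.lift (HopfAlgebra.antipodeAlgHom k A) (AlgHom.id k A) fun _ _ => .all _ _
  let T : R ⊗[k] (A ⊗[k] A) →ₐ[k] R ⊗[k] A := Algebra.TensorProduct.map (AlgHom.id k R) S
  have hl : ∀ w : R ⊗[k] A, T (Algebra.TensorProduct.map (AlgHom.id k R) (Bialgebra.comulAlgHom k A) w) =
      eV R (Coalgebra.counit (R := k)) w ⊗ₜ[k] (1 : A) := fun w => by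
    induction w using TensorProduct.induction_on with
    | zero => simp
    | add p q hp hq => simp only [map_add, TensorProduct.add_tmul, hp, hq]
    | tmul r a =>
      rw [Algebra.TensorProduct.map_tmul, eV_tmul, Algebra.TensorProduct.map_tmul, mul_comm,
        ← Algebra.smul_def, TensorProduct.smul_tmul, ← Algebra.algebraMap_eq_smul_one]
      refine congrArg (r ⊗ₜ[k] ·) ?_
      rw [← HopfAlgebra.mul_antipode_rTensor_comul_apply (R := k) a]
      show S (Coalgebra.comul (R := k) a) = _
      induction Coalgebra.comul (R := k) a using TensorProduct.induction_on with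
      | zero => simp
      | add p q hp hq => simp only [map_add, hp, hq]
      | tmul p q => simp [S]
  have h := congrArg T hu
  rw [hl, h1, map_mul] at h
  refine IsUnit.of_mul_eq_one (b := Algebra.TensorProduct.map (AlgHom.id k R) (HopfAlgebra.antipodeAlgHom k A) u) ?_
  rw [mul_comm]
  have e1 : Algebra.TensorProduct.map (AlgHom.id k R) (HopfAlgebra.antipodeAlgHom k A) =
      T.comp (Algebra.TensorProduct.map (AlgHom.id k R) (includeLeft : A →ₐ[k] A ⊗[k] A)) :=
    Algebra.TensorProduct.ext' fun r a => by simp [T, S]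
  have e2 : AlgHom.id k (R ⊗[k] A) =
      T.comp (Algebra.TensorProduct.map (AlgHom.id k R) (includeRight : A →ₐ[k] A ⊗[k] A)) :=
    Algebra.TensorProduct.ext' fun r a => by simp [T, S]
  exact (congrArg₂ (· * ·) (AlgHom.congr_fun e1 u) (AlgHom.congr_fun e2 u)).trans h.symm

theorem eV_eq_one_of_fixed {u : R ⊗[k] A} (hu : IsGL u) (hu' : IsUnit u) (φ : A →ₗ[k] k)
    (hfix : (fAct A φ).baseChange R u = u) : eV R φ u = 1 := by
  have h := congrArg (eV R (Coalgebra.counit (R := k) (A := A))) ((fAct_eq_smul hu φ).symm.trans hfix)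
  rwa [map_smul, eV_counit hu hu', smul_eq_mul, mul_one] at h

variable [Coalgebra.IsCocomm k A]

theorem isCharUnit_iff {u : R ⊗[k] A} : Almost.IsCharUnit k A u ↔ IsGL u := by
  let x₀ : A →ₐ[k] R ⊗[k] (A ⊗[k] A) := (includeRight : A ⊗[k] A →ₐ[k] _).comp includeLeft
  let y₀ : A →ₐ[k] R ⊗[k] (A ⊗[k] A) := (includeRight : A ⊗[k] A →ₐ[k] _).comp includeRight
  let φ₀ : R →ₐ[k] R ⊗[k] (A ⊗[k] A) := includeLeft
  have hm : mulPt x₀ y₀ = (includeRight : A ⊗[k] A →ₐ[k] R ⊗[k] (A ⊗[k] A)).comp (Bialgebra.comulAlgHom k A) :=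
    AlgHom.ext fun a => by
      show (Algebra.TensorProduct.lmul' k) (Algebra.TensorProduct.map _ _ (Coalgebra.comul (R := k) a)) =
        includeRight (Coalgebra.comul (R := k) a)
      induction Coalgebra.comul (R := k) a using TensorProduct.induction_on with
      | zero => simp
      | tmul x y => simp [x₀, y₀]
      | add x y hx hy => rw [map_add, map_add, map_add, hx, hy]
  have he : ∀ g : A →ₐ[k] A ⊗[k] A, ev1 φ₀ ((includeRight : A ⊗[k] A →ₐ[k] R ⊗[k] (A ⊗[k] A)).comp g) u =
      Algebra.TensorProduct.map (AlgHom.id k R) g u := fun g =>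
    AlgHom.congr_fun (Algebra.TensorProduct.ext' fun r a => by simp [φ₀]) u
  constructor
  · intro h
    have := h _ φ₀ x₀ y₀
    rw [hm, he, he, he] at this
    exact this
  · intro h B _ _ φ x y
    have h' := congrArg (ev2 φ x y) h
    rw [map_mul] at h'
    have hx : ev1 φ x = (ev2 φ x y).comp (Algebra.TensorProduct.map (AlgHom.id k R) includeLeft) :=
      Algebra.TensorProduct.ext' fun r a => by simp
    have hy : ev1 φ y = (ev2 φ x y).comp (Algebra.TensorProduct.map (AlgHom.id k R) includeRight) :=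
      Algebra.TensorProduct.ext' fun r a => by simp
    have hxy : ev1 φ (mulPt x y) = (ev2 φ x y).comp (Algebra.TensorProduct.map (AlgHom.id k R) (Bialgebra.comulAlgHom k A)) :=
      Algebra.TensorProduct.ext' fun r a => by
        simp
        refine congrArg (φ r * ·) ?_
        show (Algebra.TensorProduct.lmul' k) (Algebra.TensorProduct.map x y (Coalgebra.comul (R := k) a)) = _
        induction Coalgebra.comul (R := k) a using TensorProduct.induction_on with
        | zero => simp
        | tmul p q => simp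
        | add p q hp hq => simp only [map_add, hp, hq]
    rw [hxy, hx, hy]
    exact h'

end Eq

section Decomp

variable {Idx : Type u} [DecidableEq Idx]

/-- a decomposition of the counit in orthogonal functionals with finite pieces -/
structure IsDecomp (χ : Idx → CartDual.D k A) : Prop where
  mul : ∀ i j, χ i * χ j = if i = j then χ i else 0
  sum : ∀ c : A, ∃ s : Finset Idx, (∀ i ∉ s, (χ i).ofConv c = 0) ∧
    ∑ i ∈ s, (χ i).ofConv c = Coalgebra.counit (R := k) c
  fin : ∀ i, Module.Finite k (LinearMap.range (fAct A (χ i).ofConv))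

variable {χ : Idx → CartDual.D k A} {R : Type u} [CommRing R] [Algebra k R]

theorem exists_support (hχ : IsDecomp χ) (w : R ⊗[k] A) : ∃ s : Finset Idx, (∀ i ∉ s, eV R (χ i).ofConv w = 0) ∧
    ∑ i ∈ s, eV R (χ i).ofConv w = eV R (Coalgebra.counit (R := k)) w := by
  induction w using TensorProduct.induction_on with
  | zero => exact ⟨∅, fun i _ => map_zero _, by simp⟩
  | tmul r a =>
    obtain ⟨s, hs, hs'⟩ := hχ.sum a
    refine ⟨s, fun i hi => by rw [eV_tmul, hs i hi, map_zero, mul_zero], ?_⟩
    simp only [eV_tmul]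
    rw [← Finset.mul_sum, ← map_sum, hs']
  | add p q hp hq =>
    obtain ⟨s, hs, hs'⟩ := hp
    obtain ⟨t, ht, ht'⟩ := hq
    refine ⟨s ∪ t, fun i hi => ?_, ?_⟩
    · rw [Finset.mem_union, not_or] at hi
      rw [map_add, hs i hi.1, ht i hi.2, add_zero]
    · simp only [map_add, Finset.sum_add_distrib]
      rw [← hs', ← ht', ← Finset.sum_subset (Finset.subset_union_left (s₂ := t)) fun i _ hi => hs i hi,
        ← Finset.sum_subset (Finset.subset_union_right (s₁ := s)) fun i _ hi => ht i hi]

theorem repr_map {M : Type u} [AddCommGroup M] [Module k M] {κ : Type u} (c : Module.Basis κ k M) {R' : Type u}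
    [CommRing R'] [Algebra k R'] (π : R →ₐ[k] R') (z : R ⊗[k] M) (l : κ) :
    (Algebra.TensorProduct.basis R' c).repr (π.toLinearMap.rTensor M z) l =
      π ((Algebra.TensorProduct.basis R c).repr z l) := by
  induction z using TensorProduct.induction_on with
  | zero => simp
  | add p q hp hq => simp only [map_add, Finsupp.add_apply, hp, hq]
  | tmul r a => simp [Algebra.TensorProduct.basis_repr_tmul]

/-- the equations of being group-like -/
theorem exists_glIdeal {P : Type u} [CommRing P] [Algebra k P] (u₀ : P ⊗[k] A) :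
    ∃ I : Ideal P, ∀ (R : Type u) [CommRing R] [Algebra k R] (π : P →ₐ[k] R),
      (IsGL (Algebra.TensorProduct.map π (AlgHom.id k A) u₀) ∧
        eV R (Coalgebra.counit (R := k) (A := A)) (Algebra.TensorProduct.map π (AlgHom.id k A) u₀) = 1) ↔
      ∀ a ∈ I, π a = 0 := by
  let δ : P ⊗[k] (A ⊗[k] A) := Algebra.TensorProduct.map (AlgHom.id k P) (Bialgebra.comulAlgHom k A) u₀ -
    Algebra.TensorProduct.map (AlgHom.id k P) (includeLeft : A →ₐ[k] A ⊗[k] A) u₀ *
      Algebra.TensorProduct.map (AlgHom.id k P) (includeRight : A →ₐ[k] A ⊗[k] A) u₀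
  let c := Module.Basis.ofVectorSpace k (A ⊗[k] A)
  refine ⟨Ideal.span (Set.range (fun l => (Algebra.TensorProduct.basis P c).repr δ l) ∪
    {eV P (Coalgebra.counit (R := k) (A := A)) u₀ - 1}), fun R _ _ π => ?_⟩
  have h1 : ∀ g : A →ₐ[k] A ⊗[k] A,
      Algebra.TensorProduct.map (AlgHom.id k R) g (Algebra.TensorProduct.map π (AlgHom.id k A) u₀) =
      Algebra.TensorProduct.map π (AlgHom.id k (A ⊗[k] A)) (Algebra.TensorProduct.map (AlgHom.id k P) g u₀) := fun g => by
    induction u₀ using TensorProduct.induction_on with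
    | zero => simp
    | add p q hp hq => simp only [map_add, hp, hq]
    | tmul r a => simp
  rw [IsGL, h1, h1, h1, ← map_mul, ← sub_eq_zero, ← map_sub, eV_map, ← sub_eq_zero (a := π _), ← map_one π, ← map_sub]
  have h2 : Algebra.TensorProduct.map π (AlgHom.id k (A ⊗[k] A)) δ = π.toLinearMap.rTensor (A ⊗[k] A) δ := rfl
  rw [h2]
  constructor
  · rintro ⟨h, h'⟩ a ha
    refine RingHom.mem_ker.1 ((Ideal.span_le.2 ?_ : _ ≤ RingHom.ker π) ha)
    rintro x (⟨l, rfl⟩ | rfl)
    · show π _ = 0
      rw [← repr_map c π, h]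
      simp
    · exact h'
  · intro h
    refine ⟨(Algebra.TensorProduct.basis R c).repr.injective (Finsupp.ext fun l => ?_),
      h _ (Ideal.subset_span (Or.inr rfl))⟩
    rw [repr_map, map_zero]
    exact h _ (Ideal.subset_span (Or.inl ⟨l, rfl⟩))

variable [Coalgebra.IsCocomm k A]

/-- the coordinates of a piece -/
theorem exists_coord (f : A →ₗ[k] A) [Module.Finite k (LinearMap.range f)] (hf : ∀ a, f (f a) = f a) :
    ∃ (d : ℕ) (b : Fin d → A) (co : Fin d → (A →ₗ[k] k)), (∀ j, f (b j) = b j) ∧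
      (∀ a, f a = ∑ j, co j a • b j) ∧ ∀ j l, co j (b l) = if j = l then 1 else 0 := by
  let e := Module.finBasis k (LinearMap.range f)
  have hidem : ∀ x : LinearMap.range f, f.rangeRestrict x = x := fun x => by
    obtain ⟨a, ha⟩ := x.2
    refine Subtype.ext ?_
    show f (x : A) = x
    rw [← ha, hf]
  refine ⟨_, fun j => e j, fun j => e.coord j ∘ₗ f.rangeRestrict, fun j => congrArg Subtype.val (hidem (e j)),
    fun a => ?_, fun j l => ?_⟩
  · have h := congrArg (LinearMap.range f).subtype (e.sum_repr (f.rangeRestrict a))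
    rw [map_sum] at h
    refine Eq.trans h.symm (Finset.sum_congr rfl fun j _ => ?_)
    rw [map_smul]
    rfl
  · rw [LinearMap.comp_apply, hidem, Module.Basis.coord_apply, Module.Basis.repr_self, Finsupp.single_apply]
    simp [eq_comm]

/-- **the affine piece of the dual** -/
theorem exists_piece (hχ : IsDecomp χ) (i : Idx) :
    ∃ (R₀ : Type u) (_ : CommRing R₀) (_ : Algebra k R₀) (_ : Algebra.FiniteType k R₀) (u : (R₀ ⊗[k] A)ˣ),
      Almost.IsCharUnit k A (u : R₀ ⊗[k] A) ∧ eV R₀ (χ i).ofConv (u : R₀ ⊗[k] A) = 1 ∧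
      ∀ (R : Type u) [CommRing R] [Algebra k R] (v : R ⊗[k] A), IsUnit v → Almost.IsCharUnit k A v →
        eV R (χ i).ofConv v = 1 → ∃! π : R₀ →ₐ[k] R, Algebra.TensorProduct.map π (AlgHom.id k A) u = v := by
  classical
  haveI := hχ.fin i
  have hf : ∀ a, fAct A (χ i).ofConv (fAct A (χ i).ofConv a) = fAct A (χ i).ofConv a := fun a => by
    rw [← LinearMap.comp_apply, ← fAct_mul, hχ.mul, if_pos rfl]
  obtain ⟨d, b, co, hb, hsum, hco⟩ := exists_coord (fAct A (χ i).ofConv) hf
  let u₀ : MvPolynomial (Fin d) k ⊗[k] A := ∑ j, MvPolynomial.X j ⊗ₜ[k] b j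
  obtain ⟨I, hI⟩ := exists_glIdeal u₀
  have hM : ∀ (R : Type u) [CommRing R] [Algebra k R] (π : MvPolynomial (Fin d) k →ₐ[k] R),
      Algebra.TensorProduct.map π (AlgHom.id k A) u₀ = ∑ j, π (MvPolynomial.X j) ⊗ₜ[k] b j :=
    fun R _ _ π => by simp [u₀, map_sum]
  have hfix : ∀ (R : Type u) [CommRing R] [Algebra k R] (π : MvPolynomial (Fin d) k →ₐ[k] R),
      (fAct A (χ i).ofConv).baseChange R (Algebra.TensorProduct.map π (AlgHom.id k A) u₀) =
        Algebra.TensorProduct.map π (AlgHom.id k A) u₀ := by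
    intro R _ _ π
    rw [hM, map_sum]
    exact Finset.sum_congr rfl fun j _ => by rw [LinearMap.baseChange_tmul, hb]
  have hcoord : ∀ (R : Type u) [CommRing R] [Algebra k R] (π : MvPolynomial (Fin d) k →ₐ[k] R) (j : Fin d),
      eV R (co j) (Algebra.TensorProduct.map π (AlgHom.id k A) u₀) = π (MvPolynomial.X j) := by
    intro R _ _ π j
    rw [hM, map_sum]
    simp [eV_tmul, hco]
  let mkI : MvPolynomial (Fin d) k →ₐ[k] MvPolynomial (Fin d) k ⧸ I := Ideal.Quotient.mkₐ k I
  obtain ⟨hgl, hε⟩ := (hI _ mkI).2 fun a ha => Ideal.Quotient.eq_zero_iff_mem.2 ha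
  have hu := isUnit_of_isGL hgl hε
  refine ⟨MvPolynomial (Fin d) k ⧸ I, inferInstance, inferInstance, inferInstance, hu.unit, isCharUnit_iff.2 hgl,
    eV_eq_one_of_fixed hgl hu _ (hfix _ mkI), ?_⟩
  intro R _ _ v hv hvc hv1
  have hvg := isCharUnit_iff.1 hvc
  let π : MvPolynomial (Fin d) k →ₐ[k] R := MvPolynomial.aeval fun j => eV R (co j) v
  have hπ : Algebra.TensorProduct.map π (AlgHom.id k A) u₀ = v := by
    have h : ∀ w : R ⊗[k] A, ∑ j, eV R (co j) w ⊗ₜ[k] b j = (fAct A (χ i).ofConv).baseChange R w := fun w => by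
      induction w using TensorProduct.induction_on with
      | zero => simp
      | add p q hp hq => simp only [map_add, TensorProduct.add_tmul, Finset.sum_add_distrib, hp, hq]
      | tmul r a =>
        rw [LinearMap.baseChange_tmul, hsum, TensorProduct.tmul_sum]
        refine Finset.sum_congr rfl fun j _ => ?_
        rw [eV_tmul, mul_comm, ← Algebra.smul_def, TensorProduct.smul_tmul]
    rw [hM]
    refine Eq.trans (Finset.sum_congr rfl fun j _ => by simp [π]) ((h v).trans ?_)
    rw [fAct_eq_smul hvg, hv1, one_smul]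
  have hk : ∀ a ∈ I, π a = 0 := (hI R π).1 (by rw [hπ]; exact ⟨hvg, eV_counit hvg hv⟩)
  have hcomp : ∀ ρ : MvPolynomial (Fin d) k ⧸ I →ₐ[k] R,
      Algebra.TensorProduct.map ρ (AlgHom.id k A) (Algebra.TensorProduct.map mkI (AlgHom.id k A) u₀) =
        Algebra.TensorProduct.map (ρ.comp mkI) (AlgHom.id k A) u₀ := fun ρ => by
    rw [← AlgHom.comp_apply, ← Algebra.TensorProduct.map_comp]
    rfl
  refine ⟨Ideal.Quotient.liftₐ I π hk, ?_, fun ρ hρ => ?_⟩
  · show Algebra.TensorProduct.map _ _ _ = v
    rw [IsUnit.unit_spec, hcomp, ← hπ]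
    rfl
  · refine Ideal.Quotient.algHom_ext k (MvPolynomial.algHom_ext fun j => ?_)
    rw [← hcoord R (ρ.comp mkI) j, ← hcomp]
    rw [IsUnit.unit_spec] at hρ
    rw [hρ]
    simp [π]

end Decomp

end Groth.L07.Dual
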