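import Groth.Agent.L07.Dual.RepSheaf
import Groth.Agent.L07.Dual.Finite
import Groth.Agent.L07.Dual.Pieces
import Groth.Agent.L07.ExtShAff.HopfSeq

/-!
# The dual of an almost torus is representable
-/

universe u

open CategoryTheory CategoryTheory.Limits AlgebraicGeometry Opposite TensorProduct
open scoped MonObj
open Groth.L08.TorusQuot (SP spA)
open Groth.L08.DoubleDual (restr)
open Groth.L07.ExtShGa (ofArrows_mem restr_restr)
open Groth.L07.ExtShAff (spA_comp)
open Groth.L25.Bridge (P)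
open Groth.L07.Almost (IsCharUnit chi chi_injective restr_chi exists_unit)

set_option autoImplicit false
set_option backward.defeqAttrib.useBackward true
set_option backward.isDefEq.respectTransparency false
set_option backward.isDefEq.respectTransparency.types false
set_option linter.style.haveILetI false
set_option maxHeartbeats 1000000
set_option synthInstance.maxHeartbeats 200000

noncomputable section

namespace Groth.L07.Dual

local notation "Kf" => Scheme.fppfPrecoverage

variable {k : Type u} [Field k]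

local notation "Sk" => Spec (CommRingCat.of k)

theorem exists_spA {R R' : Type u} [CommRing R] [Algebra k R] [CommRing R'] [Algebra k R']
    (g : SP k R' ⟶ SP k R) : ∃ φ : R →ₐ[k] R', spA φ = g := by
  let f := Spec.preimage (g.left : Spec (CommRingCat.of R') ⟶ Spec (CommRingCat.of R))
  have hf : CommRingCat.ofHom (algebraMap k R) ≫ f = CommRingCat.ofHom (algebraMap k R') := by
    refine Spec.map_injective ?_
    rw [Spec.map_comp, Spec.map_preimage]
    exact Over.w g
  exact ⟨{ f.hom with commutes' := fun r => congr(($hf).hom r) }, Over.OverMorphism.ext (Spec.map_preimage _)⟩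

/-- affine charts inside an open set -/
theorem exists_chart (X : Over Sk) (x : X.left) (U : X.left.Opens) (hx : x ∈ U) :
    ∃ (R : Type u) (_ : CommRing R) (_ : Algebra k R) (e : SP k R ⟶ X), IsOpenImmersion e.left ∧
      x ∈ Set.range e.left ∧ Set.range e.left ⊆ U := by
  obtain ⟨_, ⟨W, hW, rfl⟩, hxW, hWU⟩ := X.left.isBasis_affineOpens.exists_subset_of_mem_open
    (show x ∈ (U : Set X.left) from hx) U.2
  let V : Over Sk := Over.mk (Scheme.Opens.ι W ≫ X.hom)
  haveI : IsAffine V.left := hW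
  obtain ⟨R, _, _, ⟨e⟩⟩ := Groth.L07.ExtShAff.exists_SP V inferInstance
  let i : V ⟶ X := Over.homMk (Scheme.Opens.ι W) rfl
  haveI : IsIso e.hom.left := inferInstanceAs (IsIso ((Over.forget _).map e.hom))
  haveI : IsOpenImmersion i.left := inferInstanceAs (IsOpenImmersion (Scheme.Opens.ι W))
  refine ⟨R, inferInstance, inferInstance, e.hom ≫ i, inferInstanceAs (IsOpenImmersion (e.hom.left ≫ i.left)),
    ⟨e.inv.left ⟨x, hxW⟩, ?_⟩, ?_⟩
  · show i.left (e.hom.left (e.inv.left ⟨x, hxW⟩)) = x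
    rw [← Scheme.Hom.comp_apply e.inv.left e.hom.left, ← Over.comp_left, e.inv_hom_id]
    rfl
  · rintro _ ⟨z, rfl⟩
    exact hWU (e.hom.left z).2

/-- morphisms agreeing near each point agree -/
theorem hom_ext_of_charts {X D : Over Sk} (f g : X ⟶ D)
    (h : ∀ x : X.left, ∃ (W : Over Sk) (e : W ⟶ X), IsOpenImmersion e.left ∧ x ∈ Set.range e.left ∧ e ≫ f = e ≫ g) :
    f = g := by
  choose W e he hx heq using h
  haveI := he
  refine Over.OverMorphism.ext (Scheme.Cover.hom_ext
    (Scheme.Cover.mkOfCovers (X := X.left) (P := @IsOpenImmersion) X.left (fun x => (W x).left) (fun x => (e x).left)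
      (fun x => ⟨x, hx x⟩) he) _ _
    fun x => congrArg CommaMorphism.left (heq x))

variable {A : Type u} [CommRing A] [HopfAlgebra k A] [Coalgebra.IsCocomm k A]

/-- **the dual of an affine group with a finite decomposition is representable** -/
theorem exists_rep {Idx : Type u} [DecidableEq Idx] (χ : Idx → CartDual.D k A) (hχ : IsDecomp χ) :
    ∃ (D : Over Sk) (_ : GrpObj D) (_ : IsCommMonObj D), LocallyOfFiniteType D.hom ∧
      Nonempty (CGrpSh.pts Kf D ≅ CGrpSh2.dualSh Kf (CGrpSh.pts Kf (P k A))) := by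
  classical
  choose R₀ iR iA hft u₀ hu₀ hone huniv using exists_piece hχ
  let F := CGrpSh2.dualSh Kf (CGrpSh.pts Kf (P k A))
  let V : Idx → Over Sk := fun i => SP k (R₀ i)
  let D : Over Sk := Over.mk (Sigma.desc fun i => (V i).hom)
  let j : ∀ i, V i ⟶ D := fun i =>
    Over.homMk (Sigma.ι (fun i => (V i).left) i) (Sigma.ι_desc _ _)
  haveI hjo : ∀ i, IsOpenImmersion (j i).left := fun i =>
    inferInstanceAs (IsOpenImmersion (Sigma.ι (fun i => (V i).left) i))
  have hcov : ∀ z : D.left, ∃ i, z ∈ Set.range (j i).left := fun z => by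
    obtain ⟨i, y, hy⟩ := (sigmaOpenCover (fun i => (V i).left)).exists_eq z
    exact ⟨i, y, hy⟩
  have hdisj : ∀ i i' (z : (V i).left) (z' : (V i').left), (j i).left z = (j i').left z' → i = i' := by
    intro i i' z z' e
    by_contra hne
    exact (disjoint_opensRange_sigmaι (fun i => (V i).left) i i' hne).le_bot
      (show (j i).left z ∈ (Sigma.ι (fun i => (V i).left) i).opensRange ⊓ (Sigma.ι (fun i => (V i).left) i').opensRange
        from ⟨⟨z, rfl⟩, ⟨z', e.symm⟩⟩)
  obtain ⟨s, hs⟩ := exists_glue F V D j hjo hcov hdisj fun i => chi (u₀ i) (hu₀ i)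
  have hlft : LocallyOfFiniteType D.hom :=
    IsZariskiLocalAtSource.sigmaDesc (P := @LocallyOfFiniteType) fun i => by
      show LocallyOfFiniteType (Spec.map (CommRingCat.ofHom (algebraMap k (R₀ i))))
      rw [HasRingHomProperty.Spec_iff (P := @LocallyOfFiniteType)]
      exact RingHom.finiteType_algebraMap.2 (hft i)
  -- value of the universal section on an affine point of a piece
  have hval : ∀ {R : Type u} [CommRing R] [Algebra k R] (i : Idx) (π : R₀ i →ₐ[k] R),
      ∃ (v : (R ⊗[k] A)ˣ) (hv : IsCharUnit k A (v : R ⊗[k] A)),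
        Algebra.TensorProduct.map π (AlgHom.id k A) (u₀ i) = v ∧ pullMap F s _ (spA π ≫ j i) = chi v hv ∧
        eV R (χ i).ofConv (v : R ⊗[k] A) = 1 := by
    intro R _ _ i π
    have hu' : IsUnit (Algebra.TensorProduct.map π (AlgHom.id k A) (u₀ i : R₀ i ⊗[k] A)) := (u₀ i).isUnit.map _
    refine ⟨hu'.unit, (hu₀ i).map π, rfl, ?_, ?_⟩
    · refine (ConcreteCategory.congr_hom (F.obj.map_comp (j i).op (spA π).op) s).trans ?_
      show F.obj.map (spA π).op (F.obj.map (j i).op s) = _
      rw [hs i]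
      exact restr_chi π (u₀ i) (hu₀ i) hu'.unit ((hu₀ i).map π) rfl
    · rw [IsUnit.unit_spec, eV_map, hone, map_one]
  have hinj : ∀ X, Function.Injective (pullMap F s X) := by
    intro X f g hfg
    refine hom_ext_of_charts f g fun x => ?_
    obtain ⟨i, hi⟩ := hcov (f.left x)
    obtain ⟨i', hi'⟩ := hcov (g.left x)
    obtain ⟨R, _, _, e, he, hxe, hU⟩ := exists_chart X x
      (f.left ⁻¹ᵁ (j i).left.opensRange ⊓ g.left ⁻¹ᵁ (j i').left.opensRange) ⟨hi, hi'⟩
    refine ⟨SP k R, e, he, hxe, ?_⟩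
    obtain ⟨z, hz⟩ := hxe
    haveI : Nontrivial R := by
      by_contra h
      rw [not_nontrivial_iff_subsingleton] at h
      exact IsEmpty.false (show PrimeSpectrum R from z)
    have hf : Set.range (e ≫ f).left ⊆ Set.range (j i).left := by
      rintro _ ⟨w, rfl⟩
      exact (hU ⟨w, rfl⟩).1
    have hg : Set.range (e ≫ g).left ⊆ Set.range (j i').left := by
      rintro _ ⟨w, rfl⟩
      exact (hU ⟨w, rfl⟩).2
    obtain ⟨a, ha⟩ : ∃ a : SP k R ⟶ V i, a ≫ j i = e ≫ f :=
      ⟨Over.homMk (IsOpenImmersion.lift (j i).left (e ≫ f).left hf) (by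
        rw [← Over.w (j i), IsOpenImmersion.lift_fac_assoc]; exact Over.w (e ≫ f)),
        Over.OverMorphism.ext (IsOpenImmersion.lift_fac _ _ hf)⟩
    obtain ⟨b, hb⟩ : ∃ b : SP k R ⟶ V i', b ≫ j i' = e ≫ g :=
      ⟨Over.homMk (IsOpenImmersion.lift (j i').left (e ≫ g).left hg) (by
        rw [← Over.w (j i'), IsOpenImmersion.lift_fac_assoc]; exact Over.w (e ≫ g)),
        Over.OverMorphism.ext (IsOpenImmersion.lift_fac _ _ hg)⟩
    obtain ⟨π, rfl⟩ := exists_spA a
    obtain ⟨π', rfl⟩ := exists_spA b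
    obtain ⟨v, hv, hπ, hpv, hv1⟩ := hval i π
    obtain ⟨v', hv', hπ', hpv', hv1'⟩ := hval i' π'
    have hp : ∀ t : X ⟶ D, pullMap F s _ (e ≫ t) = F.obj.map e.op (pullMap F s X t) := fun t =>
      ConcreteCategory.congr_hom (F.obj.map_comp t.op e.op) s
    have hvv : v = v' := by
      refine chi_injective (hf := hv) (hg := hv') ?_
      rw [← hpv, ← hpv', ha, hb, hp, hp, hfg]
    subst hvv
    have hii : i = i' := by
      by_contra hne
      have h := eV_mul (isCharUnit_iff.1 hv) (χ i) (χ i')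
      rw [hχ.mul, if_neg hne, hv1, hv1', mul_one] at h
      refine zero_ne_one (α := R) (Eq.trans ?_ h)
      simp [eV]
    subst hii
    obtain ⟨_, _, huq⟩ := huniv i R v v.isUnit hv hv1
    rw [← ha, ← hb, huq π hπ, huq π' hπ']
  have hsurj : ∀ (X : Over Sk) (t : F.obj.obj (op X)), ∃ Rs ∈ (QuotSh.J Kf Sk) X, ∀ ⦃X' : Over Sk⦄ (a : X' ⟶ X), Rs a →
      ∃ f : X' ⟶ D, pullMap F s X' f = F.obj.map a.op t := by
    intro X t
    have key : ∀ x : X.left, ∃ (W : Over Sk) (e : W ⟶ X), IsOpenImmersion e.left ∧ x ∈ Set.range e.left ∧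
        ∃ f : W ⟶ D, pullMap F s W f = F.obj.map e.op t := by
      intro x
      obtain ⟨R, _, _, e, he, ⟨z, rfl⟩, -⟩ := exists_chart X x ⊤ trivial
      haveI := he
      obtain ⟨v, hv, hvt⟩ := exists_unit (B := A) (R := R) (F.obj.map e.op t)
      obtain ⟨S, -, hS⟩ := exists_support hχ (v : R ⊗[k] A)
      rw [eV_counit (isCharUnit_iff.1 hv) v.isUnit] at hS
      obtain ⟨i, -, hi⟩ : ∃ i ∈ S, eV R (χ i).ofConv (v : R ⊗[k] A) ∉ (show PrimeSpectrum R from z).asIdeal := by
        by_contra h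
        push Not at h
        exact (show PrimeSpectrum R from z).2.ne_top ((Ideal.eq_top_iff_one _).2 (hS ▸ Ideal.sum_mem _ h))
      let a := eV R (χ i).ofConv (v : R ⊗[k] A)
      let R' := Localization.Away a
      let ρ : R →ₐ[k] R' := IsScalarTower.toAlgHom k R R'
      haveI : IsOpenImmersion (spA ρ).left := IsOpenImmersion.of_isLocalization (S := R') a
      have hv' : IsUnit (Algebra.TensorProduct.map ρ (AlgHom.id k A) (v : R ⊗[k] A)) := v.isUnit.map _
      have h1 : eV R' (χ i).ofConv (hv'.unit : R' ⊗[k] A) = 1 := by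
        rw [IsUnit.unit_spec, eV_map]
        have hid : ρ a * ρ a = ρ a := by
          rw [← map_mul, ← eV_mul (isCharUnit_iff.1 hv), hχ.mul, if_pos rfl]
        exact (IsLocalization.Away.algebraMap_isUnit (S := R') a).mul_left_cancel (hid.trans (mul_one _).symm)
      obtain ⟨π, hπ, -⟩ := huniv i R' hv'.unit hv'.unit.isUnit (hv.map ρ) h1
      obtain ⟨w, hw, hπw, hpw, -⟩ := hval i π
      refine ⟨SP k R', spA ρ ≫ e, inferInstanceAs (IsOpenImmersion ((spA ρ).left ≫ e.left)), ?_, spA π ≫ j i, ?_⟩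
      · have hzr : (show PrimeSpectrum R from z) ∈ Set.range (PrimeSpectrum.comap (algebraMap R R')) := by
          rw [PrimeSpectrum.localization_away_comap_range R' a]
          exact hi
        obtain ⟨y, hy⟩ := hzr
        exact ⟨y, congrArg e.left hy⟩
      · rw [hpw]
        have hwv : w = hv'.unit := Units.ext (hπw.symm.trans hπ)
        subst hwv
        rw [← restr_chi ρ v hv hv'.unit hw rfl, hvt]
        exact (ConcreteCategory.congr_hom (F.obj.map_comp e.op (spA ρ).op) t).symm
    choose W e he hx f hf using key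
    haveI := he
    refine ⟨Sieve.ofArrows W e, ofArrows_mem W e (fun _ => inferInstance) (fun _ => inferInstance) fun x => ⟨x, hx x⟩,
      ?_⟩
    rintro X' _ ⟨_, c, _, ⟨x⟩, rfl⟩
    refine ⟨c ≫ f x, ?_⟩
    rw [op_comp, F.obj.map_comp]
    refine (ConcreteCategory.congr_hom (F.obj.map_comp (f x).op c.op) s).trans ?_
    show F.obj.map c.op (pullMap F s _ (f x)) = F.obj.map c.op (F.obj.map (e x).op t)
    rw [hf x]
  obtain ⟨hG, hC, hiso⟩ := exists_grpObj F s (bijective_of_locally F s hinj hsurj)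
  exact ⟨D, hG, hC, hlft, hiso⟩

/-- **the dual of an almost torus is representable** -/
theorem exists_lft (G : Over Sk) [GrpObj G] [IsCommMonObj G] [IsAffine G.left] [LocallyOfFiniteType G.hom]
    (T Q : Over Sk) [GrpObj T] [GrpObj Q] (j : T ⟶ G) (q : G ⟶ Q) [IsMonHom j] [IsMonHom q]
    (hj : Mono j) (hT : Red.IsTorus T) (hker : AlgGrp.IsKernel j q) (hfin : IsFinite Q.hom) :
    ∃ (D : Over Sk) (_ : GrpObj D) (_ : IsCommMonObj D), LocallyOfFiniteType D.hom ∧
      Nonempty (CGrpSh.pts Kf D ≅ CGrpSh2.dualSh Kf (CGrpSh.pts Kf G)) := by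
  obtain ⟨A, _, _, _, E, hE⟩ := Groth.L08.CharSurj.exists_P (H := G)
  haveI := hE
  haveI := Groth.L08.CharSurj.isCocomm E
  haveI : IsMonHom E.inv := inferInstance
  haveI := hj
  haveI : Mono (j ≫ E.inv) := mono_comp j E.inv
  haveI : Module.Finite k (Groth.L25.LargestMult.B k A) :=
    finite_B_of_torus T Q (j ≫ E.inv) (E.hom ≫ q) inferInstance hT
      (IsPullback.of_iso hker (Iso.refl T) E.symm (Iso.refl _) (Iso.refl Q) (by simp) (by simp) (by simp) (by simp)) hfin
  obtain ⟨Idx, _, χ, h1, h2, h3⟩ := exists_pieces (k := k) (A := A)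
  obtain ⟨D, hD, hDc, hlft, ⟨e⟩⟩ := exists_rep χ ⟨h1, h2, h3⟩
  let E' : CGrpSh.pts Kf (P k A) ≅ CGrpSh.pts Kf G :=
    { hom := CGrpSh.ptsMap Kf E.hom
      inv := CGrpSh.ptsMap Kf E.inv
      hom_inv_id := by
        rw [← CGrpSh.ptsMap_comp]
        simp only [Iso.hom_inv_id]
        exact CGrpSh.ptsMap_id _
      inv_hom_id := by
        rw [← CGrpSh.ptsMap_comp]
        simp only [Iso.inv_hom_id]
        exact CGrpSh.ptsMap_id _ }
  exact ⟨D, hD, hDc, hlft, ⟨e ≪≫ (CGrpSh2.dualFunctor Kf Sk).mapIso E'.op.symm⟩⟩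

end Groth.L07.Dual
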