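import Groth.Prelude.Def_CGrpSh
import Groth.Agent.L07.BiextTriv.Law
import Groth.Agent.L07.ExtShGa.Main
import Mathlib.CategoryTheory.Monoidal.Cartesian.CommGrp_

/-!
# Abelian sheaves represented by schemes
-/

universe u

open CategoryTheory CategoryTheory.Limits AlgebraicGeometry Opposite
open scoped MonObj

set_option autoImplicit false
set_option backward.defeqAttrib.useBackward true
set_option backward.isDefEq.respectTransparency false
set_option backward.isDefEq.respectTransparency.types false
set_option linter.style.haveILetI false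

noncomputable section

namespace Groth.L07.Dual

local notation "Kf" => Scheme.fppfPrecoverage

variable {S : Scheme.{u}} (F : BigSite.Ab Kf S)

/-- pullback of a section along points -/
abbrev pullMap {D : Over S} (s : F.obj.obj (op D)) (X : Over S) (f : X ⟶ D) : F.obj.obj (op X) := F.obj.map f.op s

/-- the sections as a functor to commutative groups -/
def sectGrp : (Over S)ᵒᵖ ⥤ CommGrpCat.{u + 1} where
  obj X := CommGrpCat.of (Multiplicative (F.obj.obj X))
  map f := CommGrpCat.ofHom (AddMonoidHom.toMultiplicative (F.obj.map f).hom)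
  map_id X := CommGrpCat.hom_ext (MonoidHom.ext fun x => Multiplicative.toAdd.injective
    (show F.obj.map (𝟙 X) x.toAdd = x.toAdd by rw [F.obj.map_id]; rfl))
  map_comp f g := CommGrpCat.hom_ext (MonoidHom.ext fun x => Multiplicative.toAdd.injective
    (show F.obj.map (f ≫ g) x.toAdd = F.obj.map g (F.obj.map f x.toAdd) by rw [F.obj.map_comp]; rfl))

/-- a universal section -/
def sectRep {D : Over S} (s : F.obj.obj (op D)) (h : ∀ X, Function.Bijective (pullMap F s X)) :
    (sectGrp F ⋙ forget CommGrpCat.{u + 1}).RepresentableBy D where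
  homEquiv {X} := (Equiv.ofBijective _ (h X)).trans Multiplicative.ofAdd
  homEquiv_comp {X X'} f g := congrArg Multiplicative.ofAdd (ConcreteCategory.congr_hom (F.obj.map_comp g.op f.op) s)

/-- **a sheaf with a universal section is the sheaf of points of a group scheme** -/
theorem exists_grpObj {D : Over S} (s : F.obj.obj (op D)) (h : ∀ X, Function.Bijective (pullMap F s X)) :
    ∃ (_ : GrpObj D) (_ : IsCommMonObj D), Nonempty (CGrpSh.pts Kf D ≅ F) := by
  let α := sectRep F s h
  letI c : CommGrpObj D := CommGrpObj.ofRepresentableBy D (sectGrp F) α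
  refine ⟨c.toGrpObj, c.toIsCommMonObj, ⟨(sheafToPresheaf _ _).preimageIso (NatIso.ofComponents
    (fun X => AddEquiv.toAddCommGrpIso
      { toEquiv := (Equiv.ulift.trans Additive.toMul).trans (Equiv.ofBijective _ (h X.unop))
        map_add' := fun x y => ?_ }) fun {X X'} g => ?_)⟩⟩
  · have e0 : MonObj.mul (X := D) =
        α.homEquiv.symm (α.homEquiv (SemiCartesianMonoidalCategory.fst D D) *
          α.homEquiv (SemiCartesianMonoidalCategory.snd D D)) := rfl
    let a : X.unop ⟶ D := x.down.toMul
    let b : X.unop ⟶ D := y.down.toMul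
    have e1 : α.homEquiv MonObj.mul = α.homEquiv (SemiCartesianMonoidalCategory.fst D D) *
        α.homEquiv (SemiCartesianMonoidalCategory.snd D D) := by rw [e0, Equiv.apply_symm_apply]
    have e2 : α.homEquiv (a * b) = α.homEquiv a * α.homEquiv b := by
      rw [Hom.mul_def, α.homEquiv_comp, e1]
      show (sectGrp F).map _ (_ * _) = _
      rw [_root_.map_mul]
      refine congrArg₂ (· * ·) ?_ ?_
      · exact (α.homEquiv_comp _ _).symm.trans (congrArg _ (CartesianMonoidalCategory.lift_fst a b))
      · exact (α.homEquiv_comp _ _).symm.trans (congrArg _ (CartesianMonoidalCategory.lift_snd a b))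
    exact congrArg Multiplicative.toAdd e2
  · ext x
    exact ConcreteCategory.congr_hom (F.obj.map_comp _ g) s

/-- a section universal locally is universal -/
theorem bijective_of_locally {D : Over S} (s : F.obj.obj (op D))
    (hinj : ∀ X, Function.Injective (pullMap F s X))
    (hsurj : ∀ (X : Over S) (t : F.obj.obj (op X)), ∃ Rs ∈ (QuotSh.J Kf S) X, ∀ ⦃X' : Over S⦄ (a : X' ⟶ X), Rs a →
      ∃ f : X' ⟶ D, pullMap F s X' f = F.obj.map a.op t) :
    ∀ X, Function.Bijective (pullMap F s X) := by
  intro X
  refine ⟨hinj X, fun t => ?_⟩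
  obtain ⟨Rs, hRs, hR⟩ := hsurj X t
  choose f hf using hR
  have hsh : Presieve.IsSheafFor (yoneda.obj D) (Rs : Presieve X) :=
    (GrothendieckTopology.Subcanonical.isSheaf_of_isRepresentable (J := QuotSh.J Kf S) (yoneda.obj D)) Rs hRs
  let fam : Presieve.FamilyOfElements (yoneda.obj D) (Rs : Presieve X) := fun Y a ha => f a ha
  have hc : fam.Compatible := by
    intro Y₁ Y₂ Z g₁ g₂ a₁ a₂ h₁ h₂ e
    refine hinj Z ?_
    show F.obj.map (g₁ ≫ f a₁ h₁).op s = F.obj.map (g₂ ≫ f a₂ h₂).op s
    rw [op_comp, op_comp, F.obj.map_comp, F.obj.map_comp]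
    show F.obj.map g₁.op (pullMap F s _ (f a₁ h₁)) = F.obj.map g₂.op (pullMap F s _ (f a₂ h₂))
    rw [hf a₁ h₁, hf a₂ h₂]
    exact (ConcreteCategory.congr_hom (F.obj.map_comp a₁.op g₁.op) t).symm.trans
      ((congrArg (fun b : Z ⟶ X => F.obj.map b.op t) e).trans (ConcreteCategory.congr_hom (F.obj.map_comp a₂.op g₂.op) t))
  refine ⟨hsh.amalgamate fam hc, Groth.L07.BiextTriv.eq_of_locally F hRs _ _ fun Y a ha => ?_⟩
  have h1 : a ≫ hsh.amalgamate fam hc = f a ha := hsh.valid_glue hc a ha
  rw [← hf a ha, ← h1]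
  exact (ConcreteCategory.congr_hom (F.obj.map_comp _ a.op) s).symm

/-- sections over an empty scheme vanish -/
theorem subsingleton_of_isEmpty (Z : Over S) [IsEmpty Z.left] : Subsingleton (F.obj.obj (op Z)) := by
  refine ⟨fun x y => Groth.L07.BiextTriv.eq_of_locally F (Groth.L07.ExtShGa.ofArrows_mem (κ := PEmpty.{1})
    (fun i => (PEmpty.elim i : Over S)) (fun i => PEmpty.elim i) (fun i => PEmpty.elim i) (fun i => PEmpty.elim i)
    fun z => IsEmpty.elim inferInstance z) x y fun Y a ha => ?_⟩
  obtain ⟨_, _, _, ⟨i⟩, _⟩ := ha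
  exact i.elim

/-- gluing sections along a disjoint union -/
theorem exists_glue {κ : Type u} (V : κ → Over S) (D : Over S) (j : ∀ i, V i ⟶ D)
    (hopen : ∀ i, IsOpenImmersion (j i).left) (hcov : ∀ x : D.left, ∃ i, x ∈ Set.range (j i).left)
    (hdisj : ∀ i i' (z : (V i).left) (z' : (V i').left), (j i).left z = (j i').left z' → i = i')
    (σ : ∀ i, F.obj.obj (op (V i))) : ∃ s : F.obj.obj (op D), ∀ i, F.obj.map (j i).op s = σ i := by
  haveI := hopen
  have hmem : Sieve.ofArrows V j ∈ (QuotSh.J Kf S) D :=
    Groth.L07.ExtShGa.ofArrows_mem V j (fun i => inferInstance) (fun i => inferInstance) hcov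
  have hsh : Presieve.IsSheafFor (F.obj ⋙ forget AddCommGrpCat) (Presieve.ofArrows V j) := by
    rw [Presieve.isSheafFor_iff_generate]
    exact ((isSheaf_iff_isSheaf_of_type _ _).1 ((Presheaf.isSheaf_iff_isSheaf_comp _ F.obj (forget AddCommGrpCat)).1
      F.property)) _ hmem
  have hc : Presieve.Arrows.Compatible (F.obj ⋙ forget AddCommGrpCat) j σ := by
    intro i i' Z g g' e
    rcases isEmpty_or_nonempty Z.left with hZ | ⟨⟨z⟩⟩
    · exact (subsingleton_of_isEmpty F Z).elim _ _
    · have hii : i = i' := hdisj i i' (g.left z) (g'.left z)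
        (congrArg (fun h : Z.left ⟶ D.left => h z) (congrArg CommaMorphism.left e))
      subst hii
      have hm : Mono (j i).left := inferInstance
      haveI : Mono (j i) := Over.mono_of_mono_left _
      rw [(cancel_mono (j i)).1 e]
  obtain ⟨s, hs, -⟩ := (Presieve.isSheafFor_arrows_iff _ _).1 hsh σ hc
  exact ⟨s, hs⟩

end Groth.L07.Dual
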